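/-
Coset enumeration data, found by a computer search; checked by `decide +kernel`.
-/
import Cfsg.Agent.Lib.Spor.TC.Check

namespace CfsgLib.Spor.Fi22.CE

open CfsgLib.Spor.TC

def edgeTbl : Tbl :=
  .bin (.bin (.tip 0x600006300006000062000060000610000400006000005000054000050000530000500005200005000050000030000550000400004400004000043000040000420000300004100003000034000030000330000300003000002000032000020000250000200002400002000021000020000200000100002300001000015000010000120000100001100001000010000000000140000000000500000000003000000000020000000000100000000000) (.tip 0x13000153000140001430001400014200014000141000140001400001100014500013000122000130001310001300013000011000134000120001250001200012300012000101000120001200000f0001240001100011300011000111000110001100000f000112000100001050001000010300010000102000100000e00000d0001040000f0000f50000f0000d10000f0000f00000c0000f30000e0000e50000e0000e30000e0000e20000e0000e1)) (.bin (.tip 0xb0000e40000d0000d50000d0000d20000d0000b00000a0000d30000c0000c50000c0000c40000c0000c20000c0000c00000a0000c10000b0000b50000b0000b20000b0000b1000090000b30000a0000a50000a0000a40000a000090000080000a20000900009500009000094000090000910000700009200008000084000080000830000800008100008000070000060000850000700007400007000073000070000510000400007500006000064)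 (.tip 0x1a0001a50001a0001a40001a0001a30001a0001a20001a0001a1000190001a0000190001950001900019400019000193000190001920001800019100018000185000180001840001800018300018000180000170001820001700017400017000163000170001710001700017000015000175000160001440001600016200016000161000160001600001300016500015000154000150001520001500015100015000150))

def nodeTbl : Tbl :=
  .bin (.tip 0x1900001810001720001550001350001330001150001140000f40000f20000d40000c30000b40000a30000a1000093000082000072000065000045000040000035000031000022000013000004000000) (.none)

def rowTbl : Tbl :=
  .bin (.tip 0x1a000190001800017000160001500014000130001200011000100000f0000e0000d0000c0000b0000a00009000080000700006000050000400003000020000100000) (.none)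

def rels : List (List ℕ) := [[0, 1, 0, 1, 0, 1], [0, 2, 0, 2], [0, 3, 0, 3], [0, 4, 0, 4], [0, 5, 0, 5], [1, 2, 1, 2, 1, 2], [1, 3, 1, 3], [1, 4, 1, 4], [1, 5, 1, 5], [2, 3, 2, 3, 2, 3], [2, 4, 2, 4], [2, 5, 2, 5, 2, 5], [3, 4, 3, 4, 3, 4], [3, 5, 3, 5], [4, 5, 4, 5]]

def subs : List (List ℕ) := [[0], [1], [2], [3], [5]]

noncomputable def cert : Cert :=
  ⟨6, rels, subs, edgeTbl.get 44, nodeTbl.get 24, rowTbl.get 20⟩

end CfsgLib.Spor.Fi22.CE
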